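import Groth.Agent.H58AL.Loci
import Groth.Agent.Lib.GenFlatten.ModelFG
import Groth.Agent.Lib.Exchange.AmpleSpread
import Groth.Agent.H52.FDesc.AmpleDescent

/-!
# Ampleness on the fibres of a proper morphism of finite presentation
-/

set_option autoImplicit false
set_option linter.unusedVariables false
set_option linter.style.haveILetI false
set_option backward.isDefEq.respectTransparency false
set_option maxHeartbeats 1000000

noncomputable section

universe u

open CategoryTheory CategoryTheory.Limits AlgebraicGeometry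

namespace Groth.Agent.H58AL.Fibrewise

open Groth.Agent.Lib Groth.Agent.Lib.Lim.Basic Groth.Agent.H58AL.Loci

local notation "pb" => Scheme.Modules.pullback

/-- The module is ample on the fibre over `y`. -/
def FibAmple {X Y : Scheme.{u}} (f : X ⟶ Y) (L : X.Modules) (y : Y) : Prop :=
  CohB1.IsAmple ((pb (f.fiberι y)).obj L)

theorem fibAmple_congr {X Y : Scheme.{u}} (f : X ⟶ Y) {L M : X.Modules} (e : L ≅ M) (y : Y)
    (h : FibAmple f L y) : FibAmple f M y :=
  Ample.Pow.isAmple_of_iso ((pb _).mapIso e) h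

/-- Ampleness on a fibre does not depend on the field. -/
theorem fibAmple_iff {X₀ Y₀ X Y : Scheme.{u}} {f₀ : X₀ ⟶ Y₀} {f : X ⟶ Y} {p : X ⟶ X₀} {r : Y ⟶ Y₀}
    (sq : IsPullback p f f₀ r) [QuasiCompact f₀] {L : X₀.Modules} (hL : PicF.IsInvertible L) (y : Y) :
    FibAmple f ((pb p).obj L) y ↔ FibAmple f₀ L (r y) := by
  let ρ : Spec (Y.residueField y) ⟶ Spec (Y₀.residueField (r y)) := Spec.map (r.residueFieldMap y)
  have hρ : ρ ≫ Y₀.fromSpecResidueField (r y) = Y.fromSpecResidueField y ≫ r :=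
    Scheme.Hom.SpecMap_residueFieldMap_fromSpecResidueField _ _
  let π₀ := pullback.snd f₀ (Y₀.fromSpecResidueField (r y))
  let τ : pullback f (Y.fromSpecResidueField y) ⟶ pullback f₀ (Y₀.fromSpecResidueField (r y)) :=
    pullback.lift (pullback.fst f _ ≫ p) (pullback.snd f _ ≫ ρ) (by
      rw [Category.assoc, sq.w, reassoc_of% pullback.condition (f := f) (g := Y.fromSpecResidueField y),
        Category.assoc, hρ])
  have hsq : IsPullback τ (pullback.snd f (Y.fromSpecResidueField y)) π₀ ρ := by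
    refine IsPullback.of_right ?_ (pullback.lift_snd _ _ _) (IsPullback.of_hasPullback f₀ _)
    rw [pullback.lift_fst, hρ]
    exact (IsPullback.of_hasPullback f _).paste_horiz sq
  have hτ : τ ≫ f₀.fiberι (r y) = f.fiberι y ≫ p := pullback.lift_fst _ _ _
  let i : (pb τ).obj ((pb (f₀.fiberι (r y))).obj L) ≅ (pb (f.fiberι y)).obj ((pb p).obj L) :=
    (Scheme.Modules.pullbackComp τ _).app L ≪≫ (Scheme.Modules.pullbackCongr hτ).app L ≪≫
      ((Scheme.Modules.pullbackComp (f.fiberι y) p).app L).symm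
  haveI : QuasiCompact π₀ := MorphismProperty.pullback_snd _ _ inferInstance
  constructor
  · intro h
    letI : Algebra (Y₀.residueField (r y)) (Y.residueField y) := (r.residueFieldMap y).hom.toAlgebra
    haveI : Flat ρ := (HasRingHomProperty.Spec_iff (P := @Flat)).2
      (RingHom.flat_algebraMap_iff.mpr (Module.Flat.of_free (R := Y₀.residueField (r y)) (M := Y.residueField y)))
    haveI : Surjective ρ := ⟨fun z => ⟨(⟨⊥, Ideal.isPrime_bot⟩ : PrimeSpectrum _), Subsingleton.elim _ _⟩⟩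
    refine H52.FDesc.AmpleDescent.isAmple_descent π₀ ρ _ (PicLoc.isInvertible_pullback _ hL) ?_
    have h' := Ample.Pullback.isAmple_pullback hsq.isoPullback.inv
      (Ample.Pullback.isQuasiAffine_of_isAffineHom _) (Ample.Pow.isAmple_of_iso i.symm h)
    exact Ample.Pow.isAmple_of_iso ((Scheme.Modules.pullbackComp hsq.isoPullback.inv τ).app _ ≪≫
      (Scheme.Modules.pullbackCongr hsq.isoPullback_inv_fst).app _) h'
  · intro h
    haveI : IsAffineHom τ := MorphismProperty.of_isPullback (P := @IsAffineHom) hsq.flip inferInstance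
    exact Ample.Pow.isAmple_of_iso i
      (Ample.Pullback.isAmple_pullback τ (Ample.Pullback.isQuasiAffine_of_isAffineHom _) h)

theorem fibAmple_of_isRelAmple {X Y : Scheme.{u}} {f : X ⟶ Y} [QuasiCompact f] {L : X.Modules}
    (h : _root_.RelAmple.IsRelAmple f L) (y : Y) : FibAmple f L y :=
  haveI : QuasiCompact (pullback.snd f (Y.fromSpecResidueField y)) :=
    MorphismProperty.pullback_snd _ _ inferInstance
  (Ample.RelAmple.isRelAmple_iff_isAmple _).1 (Ample.RelAmple.isRelAmple_baseChange f _ h)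

theorem noetherian_case {X Y : Scheme.{u}} (f : X ⟶ Y) [IsProper f] [IsLocallyNoetherian Y]
    {L : X.Modules} (hL : PicF.IsInvertible L) :
    IsOpen {y : Y | FibAmple f L y} ∧ ∀ U : Y.Opens, (∀ y ∈ U, FibAmple f L y) →
      _root_.RelAmple.IsRelAmple (f ∣_ U) ((pb (f ⁻¹ᵁ U).ι).obj L) := by
  refine ⟨isOpen_iff_forall_mem_open.2 fun y hy => ?_, fun U hU => ?_⟩
  · obtain ⟨V, hyV, hV, hamp⟩ := Exchange.AmpleSpread.exists_nhd_of_fiber f hL y hy
    refine ⟨V, fun z hz => ?_, V.2, hyV⟩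
    haveI : IsAffine (V : Scheme.{u}) := hV
    have sq := (isPullback_morphismRestrict f V).flip
    have h1 : _root_.RelAmple.IsRelAmple (f ∣_ V) ((pb (f ⁻¹ᵁ V).ι).obj L) :=
      (Ample.RelAmple.isRelAmple_iff_isAmple _).2 (Ample.Pow.isAmple_of_iso
        ((Scheme.Modules.restrictFunctorIsoPullback (f ⁻¹ᵁ V).ι).app L) hamp)
    exact (fibAmple_iff sq hL ⟨z, hz⟩).1 (fibAmple_of_isRelAmple h1 _)
  · refine Ample.RelAmple.isRelAmple_of_local _ fun y => ?_
    obtain ⟨V, hyV, hV, hamp⟩ := Exchange.AmpleSpread.exists_nhd_of_fiber f hL (U.ι y) (hU _ y.2)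
    refine ⟨U.ι ⁻¹ᵁ V, hyV, fun W hW hWV => ?_⟩
    have hW' : IsAffineOpen (U.ι ''ᵁ W) := hW.image_of_isOpenImmersion U.ι
    have hle : U.ι ''ᵁ W ≤ V := (U.ι.image_mono hWV).trans (U.ι.image_preimage_le V)
    have h2 := Exchange.AmpleSpread.isAmple_restrict_le f hV hW' hle hamp
    have h3 := Ample.Pow.isAmple_of_iso
      ((Scheme.Modules.restrictFunctorIsoPullback (f ⁻¹ᵁ (U.ι ''ᵁ W)).ι).app L) h2
    let k := ((f ∣_ U) ⁻¹ᵁ W).ι ≫ (f ⁻¹ᵁ U).ι
    have hk : Set.range k = Set.range (f ⁻¹ᵁ (U.ι ''ᵁ W)).ι := by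
      rw [Scheme.Opens.range_ι, Scheme.Hom.comp_base, TopCat.coe_comp, Set.range_comp,
        Scheme.Opens.range_ι, ← image_morphismRestrict_preimage]
      rfl
    exact Ample.RelAmple.isAmple_pullback_of_comp L (IsOpenImmersion.isoOfRangeEq k _ hk).hom _ _
      (f ⁻¹ᵁ U).ι (Ample.Pullback.isQuasiAffine_of_isAffineHom _)
      (IsOpenImmersion.isoOfRangeEq_hom_fac _ _ hk) h3

theorem exists_model {A : Type u} [CommRing A] {X : Scheme.{u}} (f : X ⟶ Spec (CommRingCat.of A))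
    [IsProper f] [LocallyOfFinitePresentation f] {L : X.Modules} (hL : PicF.IsInvertible L) :
    ∃ (X₀ Y₀ : Scheme.{u}) (f₀ : X₀ ⟶ Y₀) (p : X ⟶ X₀) (r : Spec (CommRingCat.of A) ⟶ Y₀)
      (L₀ : X₀.Modules), IsAffine Y₀ ∧ IsLocallyNoetherian Y₀ ∧ IsProper f₀ ∧ IsPullback p f f₀ r ∧
        PicF.IsInvertible L₀ ∧ Nonempty ((pb p).obj L₀ ≅ L) := by
  let B : CommRingCat.{u} := CommRingCat.of A
  let D := H2.Rigid.SubDiagram.diagram B
  let c := H2.Rigid.SubDiagram.cone B
  have hlim : IsLimit c := H2.Rigid.SubDiagram.isLimitCone B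
  have hD : ∀ (i j : (Finset B)ᵒᵖ) (φ : i ⟶ j), IsAffineHom (D.map φ) := fun _ _ φ => inferInstance
  have : ∀ {i j : (Finset B)ᵒᵖ} (φ : i ⟶ j), IsAffineHom (D.map φ) := fun φ => hD _ _ φ
  haveI : ∀ i, CompactSpace (D.obj i) := fun i => inferInstance
  haveI : ∀ i, QuasiSeparatedSpace (D.obj i) := fun i => inferInstance
  haveI : CompactSpace X := QuasiCompact.compactSpace_of_compactSpace f
  haveI : QuasiSeparatedSpace X := quasiSeparatedSpace_of_quasiSeparated f
  obtain ⟨i, Xi, fi, g, hXc, hXq, hfi, hg⟩ := Lim.FPDescend.exists_descent (D := D) hlim f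
  haveI := hfi
  obtain ⟨k, φ, hk⟩ := Lim.Valuative.isProper_descends D c hlim hD i
    inferInstance inferInstance fi hXc hXq inferInstance f g hg ‹IsProper f›
  haveI := Lim.FPDescend.compactSpace_stage (D := D) fi φ
  have hmove := Lim.FPDescend.move (D := D) (c := c) hg φ
  let fk := pullback.snd fi (D.map φ)
  haveI : IsProper fk := hk
  haveI : QuasiSeparatedSpace ↥(pullback fi (D.map φ)) := quasiSeparatedSpace_of_quasiSeparated fk
  haveI : ∀ o, CompactSpace ↥((bcDiagram D (i₀ := k) fk).obj o) := fun o => compactSpace_bcDiagram D fk o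
  haveI : ∀ o, QuasiSeparatedSpace ↥((bcDiagram D (i₀ := k) fk).obj o) :=
    fun o => quasiSeparatedSpace_bcDiagram D fk o
  obtain ⟨hcol⟩ := H69.PicStage.Main.isColimit_invCl (bcDiagram D fk) (bcCone hmove.w)
    (isLimitBcCone hlim hmove)
  obtain ⟨o, ⟨_, L₁, rfl, hL₁⟩, ho⟩ := Types.jointly_surjective_of_isColimit hcol
    (⟨PicF.cl L, L, rfl, hL⟩ : PicLoc.invCl.obj (Opposite.op (bcCone hmove.w).pt))
  obtain ⟨e⟩ : Nonempty ((pb ((bcCone hmove.w).π.app o.unop)).obj L₁ ≅ L) :=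
    (PerfPic.Basic.cl_eq_iff).1 (congrArg Subtype.val ho)
  refine ⟨_, _, pullback.snd fk (D.map o.unop.hom), (bcCone hmove.w).π.app o.unop,
    c.π.app o.unop.left, L₁, ?_, ?_, MorphismProperty.pullback_snd _ _ inferInstance, ?_, hL₁, ⟨e⟩⟩
  · exact inferInstanceAs (IsAffine (Spec _))
  · have hfg : (Algebra.adjoin ℤ ((o.unop.left.unop : Finset B) : Set A)).FG :=
      Subalgebra.fg_def.2 ⟨_, o.unop.left.unop.finite_toSet, rfl⟩
    haveI : Algebra.FiniteType ℤ ↥(Algebra.adjoin ℤ ((o.unop.left.unop : Finset B) : Set A)) :=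
      (Subalgebra.fg_iff_finiteType _).1 hfg
    haveI : IsNoetherianRing ↥(Algebra.adjoin ℤ ((o.unop.left.unop : Finset B) : Set A)) :=
      Algebra.FiniteType.isNoetherianRing ℤ _
    show IsLocallyNoetherian (Spec (CommRingCat.of ↥(Algebra.adjoin ℤ ((o.unop.left.unop : Finset B) : Set A))))
    infer_instance
  · refine IsPullback.of_right ?_ (bcCone_π_snd hmove.w o.unop) (IsPullback.of_hasPullback fk _)
    convert hmove using 1
    all_goals first | rfl | exact bcCone_π_fst hmove.w o.unop | exact c.w o.unop.hom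

/-- The case of an affine base. -/
theorem affine_case {A : Type u} [CommRing A] {X : Scheme.{u}} (f : X ⟶ Spec (CommRingCat.of A))
    [IsProper f] [LocallyOfFinitePresentation f] {L : X.Modules} (hL : PicF.IsInvertible L) :
    IsOpen {y | FibAmple f L y} ∧ IsCompact {y | FibAmple f L y} ∧
      ((∀ y, FibAmple f L y) → _root_.RelAmple.IsRelAmple f L) := by
  obtain ⟨X₀, Y₀, f₀, p, r, L₀, hA, hN, hp, sq, hL₀, ⟨e⟩⟩ := exists_model f hL
  haveI := hA
  haveI := hN
  haveI := hp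
  haveI : IsNoetherian Y₀ := ⟨⟩
  obtain ⟨hopen, hrel⟩ := noetherian_case f₀ hL₀
  have hiff : ∀ y, FibAmple f L y ↔ FibAmple f₀ L₀ (r y) := fun y =>
    ⟨fun h => (fibAmple_iff sq hL₀ y).1 (fibAmple_congr f e.symm y h),
      fun h => fibAmple_congr f e y ((fibAmple_iff sq hL₀ y).2 h)⟩
  let U : Y₀.Opens := ⟨_, hopen⟩
  have hset : {y | FibAmple f L y} = r ⁻¹' (U : Set Y₀) := Set.ext hiff
  refine ⟨hset ▸ U.2.preimage r.continuous, hset ▸ r.isCompact_preimage (U := U)
    (TopologicalSpace.NoetherianSpace.isCompact _), fun h => ?_⟩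
  have hr : Set.range r ⊆ Set.range U.ι := by
    rw [Scheme.Opens.range_ι]
    rintro _ ⟨y, rfl⟩
    exact (hiff y).1 (h y)
  let r' := IsOpenImmersion.lift U.ι r hr
  have hr' : r' ≫ U.ι = r := IsOpenImmersion.lift_fac _ _ hr
  have sqU := (isPullback_morphismRestrict f₀ U).flip
  let p' : X ⟶ (f₀ ⁻¹ᵁ U : Scheme.{u}) := sqU.lift p (f ≫ r') (by rw [Category.assoc, hr', sq.w])
  have hp' : p' ≫ (f₀ ⁻¹ᵁ U).ι = p := sqU.lift_fst _ _ _
  have sq' : IsPullback p' f (f₀ ∣_ U) r' := by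
    refine IsPullback.of_right ?_ (sqU.lift_snd _ _ _) sqU
    rw [hp', hr']
    exact sq
  refine relAmple_of_iso ((Scheme.Modules.pullbackComp p' _).app L₀ ≪≫
    (Scheme.Modules.pullbackCongr hp').app L₀ ≪≫ e) ?_
  exact isRelAmple_of_isPullback sq' (hrel U fun y hy => hy)

theorem affineOpen_square {X Y : Scheme.{u}} (f : X ⟶ Y) {V : Y.Opens} (hV : IsAffineOpen V) :
    IsPullback (f ⁻¹ᵁ V).ι ((f ∣_ V) ≫ hV.isoSpec.hom) f hV.fromSpec := by
  refine IsPullback.of_iso (isPullback_morphismRestrict f V).flip (Iso.refl _) (Iso.refl _)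
    hV.isoSpec (Iso.refl _) ?_ ?_ ?_ ?_
  · simp
  · simp
  · simp
  · simp only [Iso.refl_hom, Category.comp_id]; rw [← hV.isoSpec_inv_ι, Iso.hom_inv_id_assoc]

theorem global {X Y : Scheme.{u}} (f : X ⟶ Y) [IsProper f] [LocallyOfFinitePresentation f]
    {L : X.Modules} (hL : PicF.IsInvertible L) :
    Topology.IsLocallyConstructible {y : Y | FibAmple f L y} ∧
      (_root_.RelAmple.IsRelAmple f L ↔ ∀ y, FibAmple f L y) := by
  have key : ∀ (V : Y.Opens) (hV : IsAffineOpen V),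
      IsProper ((f ∣_ V) ≫ hV.isoSpec.hom) ∧ LocallyOfFinitePresentation ((f ∣_ V) ≫ hV.isoSpec.hom) :=
    fun V hV => ⟨MorphismProperty.of_isPullback (P := @IsProper) (affineOpen_square f hV) ‹_›,
      MorphismProperty.of_isPullback (P := @LocallyOfFinitePresentation) (affineOpen_square f hV) ‹_›⟩
  have hinv : ∀ V : Y.Opens, PicF.IsInvertible ((pb (f ⁻¹ᵁ V).ι).obj L) :=
    fun V => PicLoc.isInvertible_pullback _ hL
  constructor
  · intro y
    obtain ⟨V, hV, hyV, -⟩ := exists_isAffineOpen_mem_and_subset (x := y) (U := (⊤ : Y.Opens)) trivial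
    obtain ⟨_, _⟩ := key V hV
    obtain ⟨ho, hc, -⟩ := affine_case ((f ∣_ V) ≫ hV.isoSpec.hom) (hinv V)
    refine ⟨V, V.2.mem_nhds hyV, V.2, ?_⟩
    haveI : IsAffine (V : Scheme.{u}) := hV
    haveI : QuasiSeparatedSpace ↥(V : Set Y) := inferInstanceAs (QuasiSeparatedSpace (V : Scheme.{u}))
    have hset : (Subtype.val ⁻¹' {y | FibAmple f L y} : Set (V : Set Y)) =
        hV.isoSpec.hom ⁻¹' {y | FibAmple ((f ∣_ V) ≫ hV.isoSpec.hom) ((pb (f ⁻¹ᵁ V).ι).obj L) y} := by
      ext z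
      refine ((fibAmple_iff (affineOpen_square f hV) hL (hV.isoSpec.hom z)).trans ?_).symm
      show FibAmple f L _ ↔ FibAmple f L z.1
      rw [← Scheme.Hom.comp_apply, show hV.isoSpec.hom ≫ hV.fromSpec = V.ι by rw [← hV.isoSpec_inv_ι, Iso.hom_inv_id_assoc]]
      rfl
    rw [hset]
    refine IsCompact.isConstructible ?_ (ho.preimage hV.isoSpec.hom.continuous)
    exact hV.isoSpec.hom.homeomorph.isCompact_preimage.mpr hc
  · refine ⟨fun h y => fibAmple_of_isRelAmple h y, fun h => ?_⟩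
    refine (Ample.RelAmple.isRelAmple_iff_of_openCover f (fun V : Y.affineOpens => V.1)
      (iSup_affineOpens_eq_top Y)).2 fun V => ?_
    obtain ⟨_, _⟩ := key V.1 V.2
    have h1 := (affine_case ((f ∣_ V.1) ≫ V.2.isoSpec.hom) (hinv V.1)).2.2
      fun z => (fibAmple_iff (affineOpen_square f V.2) hL z).2 (h _)
    have sq : IsPullback (𝟙 _) (f ∣_ V.1) ((f ∣_ V.1) ≫ V.2.isoSpec.hom) V.2.isoSpec.hom :=
      IsPullback.of_horiz_isIso ⟨by simp⟩
    refine relAmple_of_iso ((Scheme.Modules.pullbackId _).app _ ≪≫ ?_) (isRelAmple_of_isPullback sq h1)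
    exact ((Scheme.Modules.restrictFunctorIsoPullback (f ⁻¹ᵁ V.1).ι).app L).symm

theorem isLocallyConstructible_compl {T : Type*} [TopologicalSpace T] {s : Set T}
    (hs : Topology.IsLocallyConstructible s) : Topology.IsLocallyConstructible sᶜ := by
  intro x
  obtain ⟨U, h1, h2, h3⟩ := hs x
  exact ⟨U, h1, h2, Topology.isConstructible_compl.mpr h3⟩

end Groth.Agent.H58AL.Fibrewise
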