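import Groth.Agent.H47.FibreLocus
import Groth.Agent.H52.RelAmpleStage
import Groth.Agent.H69.PicStage.Main
import Groth.Agent.Lib.Lim.Valuative
import Groth.Agent.S4418
import Groth.Agent.S4419

/-!
# Ind-constructibility of the loci where the fibre map is ample, quasi-projective or projective
-/

set_option autoImplicit false
set_option linter.unusedVariables false
set_option linter.style.haveILetI false
set_option backward.isDefEq.respectTransparency false

noncomputable section

universe u

open CategoryTheory CategoryTheory.Limits AlgebraicGeometry Groth.Agent.Lib.Lim.Basic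
  Groth.Agent.Lib.Lim.Descend Groth.Agent.H47 Groth.Agent.H47.FibreLocus

namespace Groth.Agent.H58AL.Loci

open Groth.Agent.Lib

/-- A predicate on schemes over the base which is stable under base change and descends from the
residue fields to the stages cuts out an ind-constructible set. -/
theorem isIndConstructible_of_stage {S : Scheme.{u}} (Φ : ∀ {T : Scheme.{u}}, (T ⟶ S) → Prop)
    (mono : ∀ {T T' : Scheme.{u}} {a : T ⟶ S} {a' : T' ⟶ S} (m : T' ⟶ T), m ≫ a = a' → Φ a → Φ a')
    (stage : ∀ {A : CommRingCat.{u}} (u : Spec A ⟶ S) (q : Ideal A) [q.IsPrime],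
      Φ (Spec.map (CommRingCat.ofHom (algebraMap A q.ResidueField)) ≫ u) →
        ∃ i : Ix q, Φ (Spec.map (CommRingCat.ofHom (algebraMap A (Stage i))) ≫ u)) :
    ProCons.IsIndConstructible {s : S | Φ (S.fromSpecResidueField s)} := by
  intro x
  obtain ⟨U, hU, hxU, -⟩ := exists_isAffineOpen_mem_and_subset (X := S) (x := x) (U := ⊤) trivial
  refine ⟨(U : Set S), U.2, hxU, ?_⟩
  have hUa : IsAffine U := hU
  set E : Set S := {s : S | Φ (S.fromSpecResidueField s)} with hE
  refine ⟨{T : Set ↥U | Topology.IsLocallyConstructible T ∧ T ⊆ Subtype.val ⁻¹' E},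
    fun T hT => hT.1, ?_⟩
  refine subset_antisymm (fun s hs => ?_) (Set.sUnion_subset fun T hT => hT.2)
  let q := (hU.primeIdealOf s).asIdeal
  let w := Spec.map (CommRingCat.ofHom (algebraMap Γ(S, U) q.ResidueField)) ≫ hU.fromSpec
  have hw : ∀ y, w y = s.1 := fun y => by
    have : Spec.map (CommRingCat.ofHom (algebraMap Γ(S, U) q.ResidueField)) y =
        hU.primeIdealOf s := by
      refine PrimeSpectrum.ext ?_
      have hy : y.asIdeal = ⊥ := by
        have := y.2
        exact (Ideal.eq_bot_or_top y.asIdeal).resolve_right this.ne_top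
      change Ideal.comap (algebraMap Γ(S, U) q.ResidueField) y.asIdeal = q
      rw [hy]
      exact Ideal.ker_algebraMap_residueField q
    rw [Scheme.Hom.comp_apply]
    exact (congrArg hU.fromSpec this).trans (hU.fromSpec_primeIdealOf s)
  have hPw : Φ w := by
    have hs' : Φ (S.fromSpecResidueField s.1) := hs
    have e := Scheme.descResidueField_stalkClosedPointTo_fromSpecResidueField q.ResidueField S w
    refine mono _ e ?_
    rw [hw]
    exact hs'
  obtain ⟨i, hi⟩ := stage hU.fromSpec q hPw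
  let k : Spec (CommRingCat.of (Stage i)) ⟶ Spec Γ(S, U) :=
    Spec.map (CommRingCat.ofHom (algebraMap Γ(S, U) (Stage i)))
  have : LocallyOfFinitePresentation k :=
    (HasRingHomProperty.Spec_iff (P := @LocallyOfFinitePresentation)).2 (finitePresentation_stage i)
  have hcons := (k ≫ hU.isoSpec.inv).isLocallyConstructible_image
    (Topology.IsLocallyConstructible.univ (X := Spec (CommRingCat.of (Stage i))))
  refine ⟨_, ⟨hcons, ?_⟩, ?_⟩
  · rintro _ ⟨z, -, rfl⟩
    obtain ⟨t, ht⟩ : ∃ t : S, (k ≫ hU.fromSpec) z = t := ⟨_, rfl⟩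
    have hval : ((k ≫ hU.isoSpec.inv) z).1 = t := by
      rw [← ht, ← hU.isoSpec_inv_ι]
      rfl
    show ((k ≫ hU.isoSpec.inv) z).1 ∈ E
    rw [hval]
    have htU : t ∈ U := hval ▸ ((k ≫ hU.isoSpec.inv) z).2
    obtain ⟨m, hm⟩ : ∃ m : Spec (S.residueField t) ⟶ Spec Γ(S, U),
        m ≫ hU.fromSpec = S.fromSpecResidueField t := by
      refine ⟨IsOpenImmersion.lift hU.fromSpec (S.fromSpecResidueField t) ?_,
        IsOpenImmersion.lift_fac _ _ _⟩
      rw [Scheme.range_fromSpecResidueField, hU.range_fromSpec]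
      exact Set.singleton_subset_iff.2 htU
    obtain ⟨ψ, rfl⟩ := Spec.map_surjective m
    have hker : RingHom.ker ψ.hom = (k z).asIdeal := by
      let pt : Spec (S.residueField t) := (⟨⊥, Ideal.isPrime_bot⟩ : PrimeSpectrum (S.residueField t))
      have h1 : Spec.map ψ pt = k z := by
        refine hU.fromSpec.isOpenEmbedding.injective ?_
        rw [← Scheme.Hom.comp_apply, hm, Scheme.fromSpecResidueField_apply, ← ht]
        rfl
      rw [← h1]
      rfl
    have hkz : (k z).asIdeal = z.asIdeal.comap (algebraMap Γ(S, U) (Stage i)) := rfl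
    have hug : IsUnit (ψ.hom i.g) := by
      refine isUnit_iff_ne_zero.2 fun h0 => ?_
      have : i.g ∈ (k z).asIdeal := hker ▸ RingHom.mem_ker.2 h0
      rw [hkz] at this
      exact z.2.ne_top (Ideal.eq_top_of_isUnit_mem _ this (algebraMap_g_isUnit i))
    have hF0 : ∀ x ∈ i.F, ψ.hom x = 0 := fun x hx => by
      rw [← RingHom.mem_ker, hker, hkz, Ideal.mem_comap, algebraMap_F i hx]
      exact zero_mem _
    refine mono (Spec.map (CommRingCat.ofHom (liftHom i ψ.hom hug hF0))) ?_ hi
    rw [← hm, ← Category.assoc, ← Spec.map_comp]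
    congr 2
    ext1
    exact RingHom.ext fun r => liftHom_algebraMap i _ hug hF0 r
  · let y : Spec (CommRingCat.of q.ResidueField) :=
      (⟨⊥, Ideal.isPrime_bot⟩ : PrimeSpectrum q.ResidueField)
    refine ⟨Spec.map (CommRingCat.ofHom (toRes i)) y, trivial, Subtype.ext ?_⟩
    rw [← hw y, ← Scheme.Hom.comp_apply]
    show (_ ≫ U.ι) y = _
    congr 1
    rw [Category.assoc, Category.assoc, hU.isoSpec_inv_ι, ← Category.assoc, ← Spec.map_comp]
    have e : CommRingCat.ofHom (algebraMap Γ(S, U) (Stage i)) ≫ CommRingCat.ofHom (toRes i) =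
        CommRingCat.ofHom (algebraMap Γ(S, U) q.ResidueField) := by
      ext1
      refine RingHom.ext fun r => ?_
      simp [toRes]
    rw [e]

set_option maxHeartbeats 1600000

variable {X Y S : Scheme.{u}} {f : X ⟶ Y} {g : Y ⟶ S}

/-- Relative ampleness is stable under base change. -/
theorem relAmple_of_iso {X Y : Scheme.{u}} {f : X ⟶ Y} {L M : X.Modules} (e : L ≅ M)
    (h : _root_.RelAmple.IsRelAmple f L) : _root_.RelAmple.IsRelAmple f M := by
  obtain ⟨hq, hA⟩ := (Ample.RelAmple.isRelAmple_iff f).1 h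
  exact (Ample.RelAmple.isRelAmple_iff f).2
    ⟨hq, fun V hV => Ample.Pow.isAmple_of_iso ((Scheme.Modules.pullback _).mapIso e) (hA V hV)⟩

theorem isRelAmple_of_isPullback {X Y X' Y' : Scheme.{u}} {f : X ⟶ Y} {f' : X' ⟶ Y'} {p : X' ⟶ X}
    {r : Y' ⟶ Y} (hsq : IsPullback p f' f r) [QuasiCompact f] {L : X.Modules}
    (h : _root_.RelAmple.IsRelAmple f L) :
    _root_.RelAmple.IsRelAmple f' ((Scheme.Modules.pullback p).obj L) := by
  have h1 := Ample.RelAmple.isRelAmple_pullback (pullback.snd f r) hsq.isoPullback.hom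
    (Ample.Pullback.isQuasiAffine_of_isAffineHom _) (Ample.RelAmple.isRelAmple_baseChange f r h)
  rw [hsq.isoPullback_hom_snd] at h1
  exact relAmple_of_iso
    ((Scheme.Modules.pullbackComp hsq.isoPullback.hom (pullback.fst f r)).app L ≪≫
      (Scheme.Modules.pullbackCongr hsq.isoPullback_hom_fst).app L) h1

variable (f g) in
/-- The map on base changes of `X`. -/
abbrev bcX {T : Scheme.{u}} (a : T ⟶ S) : pullback f (pullback.fst g a) ⟶ X :=
  pullback.fst f (pullback.fst g a)

theorem bc_square {T T' : Scheme.{u}} {a : T ⟶ S} {a' : T' ⟶ S} (m : T' ⟶ T) (e : m ≫ a = a') :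
    ∃ (r : pullback g a' ⟶ pullback g a) (t : pullback f (pullback.fst g a') ⟶ pullback f (pullback.fst g a)),
      (r ≫ pullback.fst g a = pullback.fst g a' ∧ r ≫ pullback.snd g a = pullback.snd g a' ≫ m) ∧
      t ≫ bcX f g a = bcX f g a' ∧ IsPullback t (bcMap f g a') (bcMap f g a) r := by
  refine ⟨pullback.lift (pullback.fst g a') (pullback.snd g a' ≫ m)
      (by rw [Category.assoc, e, pullback.condition]), ?_⟩
  let r : pullback g a' ⟶ pullback g a := pullback.lift (pullback.fst g a') (pullback.snd g a' ≫ m)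
      (by rw [Category.assoc, e, pullback.condition])
  have hr : r ≫ pullback.fst g a = pullback.fst g a' := pullback.lift_fst _ _ _
  let t : pullback f (pullback.fst g a') ⟶ pullback f (pullback.fst g a) :=
    pullback.lift (pullback.fst f _) (pullback.snd f _ ≫ r)
      (by rw [Category.assoc, hr, pullback.condition])
  refine ⟨t, ⟨hr, pullback.lift_snd _ _ _⟩, pullback.lift_fst _ _ _, ?_⟩
  refine IsPullback.of_right ?_ (pullback.lift_snd _ _ _) (IsPullback.of_hasPullback f _)
  rw [pullback.lift_fst, hr]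
  exact IsPullback.of_hasPullback f _

variable (f g) in
/-- `L` is ample relative to the base change of `f`. -/
def AmpleAt (L : X.Modules) {T : Scheme.{u}} (a : T ⟶ S) : Prop :=
  _root_.RelAmple.IsRelAmple (bcMap f g a) ((Scheme.Modules.pullback (bcX f g a)).obj L)

variable (f g) in
/-- The base change of `f` has a relatively ample module. -/
def QPAt {T : Scheme.{u}} (a : T ⟶ S) : Prop :=
  ∃ L : (pullback f (pullback.fst g a)).Modules, _root_.RelAmple.IsRelAmple (bcMap f g a) L

theorem ampleAt_mono [QuasiCompact f] (L : X.Modules) {T T' : Scheme.{u}} {a : T ⟶ S} {a' : T' ⟶ S}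
    (m : T' ⟶ T) (e : m ≫ a = a') (h : AmpleAt f g L a) : AmpleAt f g L a' := by
  obtain ⟨r, t, -, ht, hsq⟩ := bc_square (f := f) (g := g) m e
  haveI : QuasiCompact (bcMap f g a) := MorphismProperty.pullback_snd _ _ inferInstance
  exact relAmple_of_iso ((Scheme.Modules.pullbackComp t (bcX f g a)).app L ≪≫
    (Scheme.Modules.pullbackCongr ht).app L) (isRelAmple_of_isPullback hsq h)

theorem qpAt_mono [QuasiCompact f] {T T' : Scheme.{u}} {a : T ⟶ S} {a' : T' ⟶ S} (m : T' ⟶ T)
    (e : m ≫ a = a') (h : QPAt f g a) : QPAt f g a' := by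
  obtain ⟨r, t, -, ht, hsq⟩ := bc_square (f := f) (g := g) m e
  haveI : QuasiCompact (bcMap f g a) := MorphismProperty.pullback_snd _ _ inferInstance
  obtain ⟨L, hL⟩ := h
  exact ⟨_, isRelAmple_of_isPullback hsq hL⟩

section Stage

variable [QuasiCompact g] [QuasiSeparated g] [QuasiCompact (f ≫ g)] [QuasiSeparated (f ≫ g)]
variable {A : CommRingCat.{u}} (u : Spec A ⟶ S) (q : Ideal A) [q.IsPrime]

theorem hj_eq {i i' : Ix q} (φ : i ⟶ i') :
    Spec.map ((stages q).map φ) ≫ Spec.map (CommRingCat.ofHom (algebraMap A (Stage i))) ≫ u =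
      Spec.map (CommRingCat.ofHom (algebraMap A (Stage i'))) ≫ u := by
  rw [← Category.assoc, ← Spec.map_comp]
  congr 2
  ext1
  refine RingHom.ext fun r => ?_
  simp [stages, FibreLocus.trans]

theorem hw_eq (i : Ix q) :
    Spec.map (CommRingCat.ofHom (toRes i)) ≫ Spec.map (CommRingCat.ofHom (algebraMap A (Stage i))) ≫ u =
      Spec.map (CommRingCat.ofHom (algebraMap A q.ResidueField)) ≫ u := by
  rw [← Category.assoc, ← Spec.map_comp]
  congr 2
  ext1
  refine RingHom.ext fun r => ?_
  simp [toRes]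

theorem stage_data (i₀ : Ix q) :
    ∃ (qY : pullback g (Spec.map (CommRingCat.ofHom (algebraMap A q.ResidueField)) ≫ u) ⟶
        pullback g (Spec.map (CommRingCat.ofHom (algebraMap A (Stage i₀))) ≫ u))
      (qX : pullback f (pullback.fst g (Spec.map (CommRingCat.ofHom (algebraMap A q.ResidueField)) ≫ u)) ⟶
        pullback f (pullback.fst g (Spec.map (CommRingCat.ofHom (algebraMap A (Stage i₀))) ≫ u))),
      IsPullback qY (pullback.snd g _) (pullback.snd g _)
        ((SpecLimit.cone (stages q) (resCocone q)).π.app (.op i₀)) ∧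
      IsPullback qX (bcMap f g _) (bcMap f g _) qY ∧
      qX ≫ bcX f g _ = bcX f g _ ∧ qY ≫ pullback.fst g _ = pullback.fst g _ := by
  let j₀ := Spec.map (CommRingCat.ofHom (algebraMap A (Stage i₀))) ≫ u
  let w := Spec.map (CommRingCat.ofHom (algebraMap A q.ResidueField)) ≫ u
  have hw : Spec.map (CommRingCat.ofHom (toRes i₀)) ≫ j₀ = w := hw_eq u q i₀
  let qY : pullback g w ⟶ pullback g j₀ :=
    pullback.lift (pullback.fst g w) (pullback.snd g w ≫ Spec.map (CommRingCat.ofHom (toRes i₀)))
      (by rw [Category.assoc, hw, pullback.condition])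
  have hY : IsPullback qY (pullback.snd g w) (pullback.snd g j₀)
      ((SpecLimit.cone (stages q) (resCocone q)).π.app (.op i₀)) := by
    refine IsPullback.of_right ?_ (pullback.lift_snd _ _ _) (IsPullback.of_hasPullback g j₀)
    rw [pullback.lift_fst]
    change IsPullback (pullback.fst g w) (pullback.snd g w) g
      (Spec.map (CommRingCat.ofHom (toRes i₀)) ≫ j₀)
    rw [hw]
    exact IsPullback.of_hasPullback g w
  let qX : pullback f (pullback.fst g w) ⟶ pullback f (pullback.fst g j₀) :=
    pullback.lift (pullback.fst f _) (pullback.snd f _ ≫ qY)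
      (by rw [Category.assoc, pullback.lift_fst, pullback.condition])
  have hX : IsPullback qX (bcMap f g w) (bcMap f g j₀) qY := by
    refine IsPullback.of_right ?_ (pullback.lift_snd _ _ _) (IsPullback.of_hasPullback f _)
    rw [pullback.lift_fst, pullback.lift_fst]
    exact IsPullback.of_hasPullback f _
  exact ⟨qY, qX, hY, hX, pullback.lift_fst _ _ _, pullback.lift_fst _ _ _⟩

theorem stage_qcqs {T : Scheme.{u}} [CompactSpace T] [QuasiSeparatedSpace T] (a : T ⟶ S) :
    CompactSpace ↥(pullback g a) ∧ QuasiSeparatedSpace ↥(pullback g a) ∧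
      CompactSpace ↥(pullback f (pullback.fst g a)) ∧
      QuasiSeparatedSpace ↥(pullback f (pullback.fst g a)) := by
  let g₀ : pullback g a ⟶ T := pullback.snd g a
  let f₀ := bcMap f g a
  have hfg₀ : IsPullback (pullback.fst f (pullback.fst g a)) (f₀ ≫ g₀) (f ≫ g) a :=
    (IsPullback.of_hasPullback f (pullback.fst g a)).paste_vert (IsPullback.of_hasPullback g a)
  have h1 : QuasiCompact g₀ := MorphismProperty.pullback_snd _ _ inferInstance
  have h2 : QuasiSeparated g₀ := MorphismProperty.pullback_snd _ _ inferInstance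
  have h3 : QuasiCompact (f₀ ≫ g₀) :=
    MorphismProperty.of_isPullback (P := @QuasiCompact) hfg₀ inferInstance
  have h4 : QuasiSeparated (f₀ ≫ g₀) :=
    MorphismProperty.of_isPullback (P := @QuasiSeparated) hfg₀ inferInstance
  exact ⟨QuasiCompact.compactSpace_of_compactSpace g₀, quasiSeparatedSpace_of_quasiSeparated g₀,
    QuasiCompact.compactSpace_of_compactSpace (f₀ ≫ g₀),
    quasiSeparatedSpace_of_quasiSeparated (f₀ ≫ g₀)⟩

theorem ampleAt_stage_aux [QuasiCompact f] [QuasiSeparated f] (i₀ : Ix q)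
    (L₀ : (pullback f (pullback.fst g (Spec.map (CommRingCat.ofHom (algebraMap A (Stage i₀))) ≫ u))).Modules)
    (hL₀ : PicF.IsInvertible L₀)
    {qX : pullback f (pullback.fst g (Spec.map (CommRingCat.ofHom (algebraMap A q.ResidueField)) ≫ u)) ⟶
        pullback f (pullback.fst g (Spec.map (CommRingCat.ofHom (algebraMap A (Stage i₀))) ≫ u))}
    {qY : pullback g (Spec.map (CommRingCat.ofHom (algebraMap A q.ResidueField)) ≫ u) ⟶
        pullback g (Spec.map (CommRingCat.ofHom (algebraMap A (Stage i₀))) ≫ u)}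
    (hY : IsPullback qY (pullback.snd g _) (pullback.snd g _)
        ((SpecLimit.cone (stages q) (resCocone q)).π.app (.op i₀)))
    (hX : IsPullback qX (bcMap f g _) (bcMap f g _) qY)
    (h : _root_.RelAmple.IsRelAmple
      (bcMap f g (Spec.map (CommRingCat.ofHom (algebraMap A q.ResidueField)) ≫ u))
      ((Scheme.Modules.pullback qX).obj L₀)) :
    ∃ (i : Ix q) (t : pullback f (pullback.fst g (Spec.map (CommRingCat.ofHom (algebraMap A (Stage i))) ≫ u)) ⟶
        pullback f (pullback.fst g (Spec.map (CommRingCat.ofHom (algebraMap A (Stage i₀))) ≫ u))),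
      t ≫ bcX f g _ = bcX f g _ ∧
      _root_.RelAmple.IsRelAmple (bcMap f g (Spec.map (CommRingCat.ofHom (algebraMap A (Stage i))) ≫ u))
        ((Scheme.Modules.pullback t).obj L₀) := by
  obtain ⟨h1, h2, h3, h4⟩ := stage_qcqs (f := f) (g := g)
    (Spec.map (CommRingCat.ofHom (algebraMap A (Stage i₀))) ≫ u)
  haveI : QuasiCompact (bcMap f g (Spec.map (CommRingCat.ofHom (algebraMap A (Stage i₀))) ≫ u)) :=
    MorphismProperty.pullback_snd _ _ inferInstance
  haveI : QuasiSeparated (bcMap f g (Spec.map (CommRingCat.ofHom (algebraMap A (Stage i₀))) ≫ u)) :=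
    MorphismProperty.pullback_snd _ _ inferInstance
  have hlim : IsLimit (SpecLimit.cone (stages q) (resCocone q)) :=
    SpecLimit.isLimitCone _ _ nonempty_isColimit_resCocone.some
  obtain ⟨i, φ, Xi, Yi, fi, gi, pY, pX, hYi, hXi, hP⟩ :=
    H52.RelAmpleStage.exists_stage hY hX hlim hL₀ h
  let j₀ := Spec.map (CommRingCat.ofHom (algebraMap A (Stage i₀))) ≫ u
  let j := Spec.map (CommRingCat.ofHom (algebraMap A (Stage i.unop))) ≫ u
  have e : (SpecLimit.diagram (stages q)).map φ ≫ j₀ = j := hj_eq u q φ.unop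
  have hYi' : IsPullback (pY ≫ pullback.fst g j₀) gi g j := by
    rw [← e]; exact hYi.paste_horiz (IsPullback.of_hasPullback g j₀)
  have hXi' : IsPullback (pX ≫ bcX f g j₀) fi f (pY ≫ pullback.fst g j₀) :=
    hXi.paste_horiz (IsPullback.of_hasPullback f _)
  obtain ⟨t, ht, hsq⟩ : ∃ t : pullback f (pullback.fst g j) ⟶ Xi,
      t ≫ pX ≫ bcX f g j₀ = bcX f g j ∧ IsPullback t (bcMap f g j) fi hYi'.isoPullback.inv := by
    have hrY : hYi'.isoPullback.inv ≫ pY ≫ pullback.fst g j₀ = pullback.fst g j :=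
      hYi'.isoPullback_inv_fst
    refine ⟨hXi'.lift (bcX f g j) (bcMap f g j ≫ hYi'.isoPullback.inv)
      (by rw [Category.assoc, hrY]; exact pullback.condition), hXi'.lift_fst _ _ _, ?_⟩
    refine IsPullback.of_right ?_ (hXi'.lift_snd _ _ _) hXi'
    rw [hXi'.lift_fst, hrY]
    exact IsPullback.of_hasPullback f _
  refine ⟨i.unop, t ≫ pX, by rw [Category.assoc]; exact ht, ?_⟩
  haveI : QuasiCompact fi := MorphismProperty.of_isPullback hXi inferInstance
  exact relAmple_of_iso ((Scheme.Modules.pullbackComp t pX).app L₀)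
    (isRelAmple_of_isPullback hsq hP)

theorem ampleAt_stage [QuasiCompact f] [QuasiSeparated f] {L : X.Modules} (hL : PicF.IsInvertible L)
    (h : AmpleAt f g L (Spec.map (CommRingCat.ofHom (algebraMap A q.ResidueField)) ≫ u)) :
    ∃ i : Ix q, AmpleAt f g L (Spec.map (CommRingCat.ofHom (algebraMap A (Stage i))) ≫ u) := by
  obtain ⟨i₀⟩ : Nonempty (Ix q) := inferInstance
  obtain ⟨qY, qX, hY, hX, hq, -⟩ := stage_data (f := f) (g := g) u q i₀
  obtain ⟨i, t, ht, hi⟩ := ampleAt_stage_aux u q i₀ ((Scheme.Modules.pullback (bcX f g _)).obj L)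
    (PicLoc.isInvertible_pullback _ hL) hY hX
    (relAmple_of_iso (((Scheme.Modules.pullbackComp qX (bcX f g _)).app L ≪≫
      (Scheme.Modules.pullbackCongr hq).app L)).symm h)
  exact ⟨i, relAmple_of_iso ((Scheme.Modules.pullbackComp t (bcX f g _)).app L ≪≫
      (Scheme.Modules.pullbackCongr ht).app L) hi⟩

theorem qpAt_stage [QuasiCompact f] [QuasiSeparated f]
    (h : QPAt f g (Spec.map (CommRingCat.ofHom (algebraMap A q.ResidueField)) ≫ u)) :
    ∃ i : Ix q, QPAt f g (Spec.map (CommRingCat.ofHom (algebraMap A (Stage i))) ≫ u) := by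
  obtain ⟨L, hL⟩ := h
  have hLi := Ample.RelAmple.isInvertible_of_isRelAmple hL
  obtain ⟨i₀⟩ : Nonempty (Ix q) := inferInstance
  obtain ⟨qY, qX, hY, hX, hq, hqY⟩ := stage_data (f := f) (g := g) u q i₀
  obtain ⟨h1, h2, h3, h4⟩ := stage_qcqs (f := f) (g := g)
    (Spec.map (CommRingCat.ofHom (algebraMap A (Stage i₀))) ≫ u)
  let D := SpecLimit.diagram (stages q)
  let c := SpecLimit.cone (stages q) (resCocone q)
  have hlim : IsLimit c := SpecLimit.isLimitCone _ _ nonempty_isColimit_resCocone.some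
  have hXS := hX.paste_vert hY
  let a := bcMap f g (Spec.map (CommRingCat.ofHom (algebraMap A (Stage i₀))) ≫ u) ≫ pullback.snd g _
  have : ∀ k, CompactSpace ↥((bcDiagram D (i₀ := .op i₀) a).obj k) := fun k => compactSpace_bcDiagram D a k
  have : ∀ k, QuasiSeparatedSpace ↥((bcDiagram D (i₀ := .op i₀) a).obj k) :=
    fun k => quasiSeparatedSpace_bcDiagram D a k
  obtain ⟨hcol⟩ := H69.PicStage.Main.isColimit_invCl (bcDiagram D a) (bcCone hXS.w)
    (isLimitBcCone hlim hXS)
  obtain ⟨k, ⟨_, L₁, rfl, hL₁⟩, hk⟩ := Types.jointly_surjective_of_isColimit hcol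
    (⟨PicF.cl L, L, rfl, hLi⟩ : PicLoc.invCl.obj (Opposite.op (bcCone hXS.w).pt))
  obtain ⟨e⟩ : Nonempty ((Scheme.Modules.pullback ((bcCone hXS.w).π.app k.unop)).obj L₁ ≅ L) :=
    (PerfPic.Basic.cl_eq_iff).1 (congrArg Subtype.val hk)
  let i₁ : Ix q := k.unop.left.unop
  let φ : Opposite.op i₁ ⟶ Opposite.op i₀ := k.unop.hom
  obtain ⟨rY, rX, ⟨hrY, hrY'⟩, hrX, hsq⟩ := bc_square (f := f) (g := g) _ (hj_eq u q φ.unop)
  obtain ⟨qY', qX', hY', hX', hq', hqY'⟩ := stage_data (f := f) (g := g) u q i₁
  let σ : pullback f (pullback.fst g (Spec.map (CommRingCat.ofHom (algebraMap A (Stage i₁))) ≫ u)) ⟶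
      (bcDiagram D (i₀ := .op i₀) a).obj k.unop :=
    pullback.lift rX (bcMap f g _ ≫ pullback.snd g _) (by
      simp only [a, reassoc_of% hsq.w, hrY', Category.assoc]
      rfl)
  have hw : qY' ≫ rY = qY := by
    apply pullback.hom_ext
    · rw [Category.assoc, hrY, hqY', hqY]
    · rw [Category.assoc, hrY', ← Category.assoc, hY'.w, hY.w, Category.assoc]
      exact congrArg _ (c.w φ)
  have hπ : qX' ≫ σ = (bcCone hXS.w).π.app k.unop := by
    apply pullback.hom_ext
    · rw [Category.assoc, pullback.lift_fst]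
      refine Eq.trans ?_ (bcCone_π_fst hXS.w k.unop).symm
      apply pullback.hom_ext
      · exact (Category.assoc _ _ _).trans ((congrArg (qX' ≫ ·) hrX).trans (hq'.trans hq.symm))
      · rw [Category.assoc, hsq.w, ← Category.assoc, hX'.w, Category.assoc, hw, hX.w]
    · rw [Category.assoc, pullback.lift_snd, ← Category.assoc, hX'.w, Category.assoc, hY'.w]
      exact ((bcCone_π_snd hXS.w k.unop).trans (Category.assoc _ _ _)).symm
  obtain ⟨i, t, -, hi⟩ := ampleAt_stage_aux u q i₁ ((Scheme.Modules.pullback σ).obj L₁)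
    (PicLoc.isInvertible_pullback _ hL₁) hY' hX'
    (relAmple_of_iso (((Scheme.Modules.pullbackComp qX' σ).app L₁ ≪≫
      (Scheme.Modules.pullbackCongr hπ).app L₁) ≪≫ e).symm hL)
  exact ⟨i, _, hi⟩

end Stage

variable (f g) in
/-- The fibre map is the base change of `f`, up to a unique isomorphism. -/
theorem fibre_square {T : Scheme.{u}} (a : T ⟶ S) :
    ∃ e : pullback (f ≫ g) a ⟶ pullback f (pullback.fst g a), IsIso e ∧
      e ≫ bcX f g a = pullback.fst (f ≫ g) a ∧
      e ≫ bcMap f g a = pullback.lift (pullback.fst (f ≫ g) a ≫ f) (pullback.snd (f ≫ g) a)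
        ((Category.assoc _ _ _).trans pullback.condition) :=
  ⟨(isPullback_fibreMap f g a).isoPullback.hom, inferInstance,
    (isPullback_fibreMap f g a).isoPullback_hom_fst, (isPullback_fibreMap f g a).isoPullback_hom_snd⟩

variable (f g) in
theorem ampleAt_iff [QuasiCompact f] (L : X.Modules) {T : Scheme.{u}} (a : T ⟶ S) :
    _root_.RelAmple.IsRelAmple (pullback.lift (pullback.fst (f ≫ g) a ≫ f) (pullback.snd (f ≫ g) a)
        ((Category.assoc _ _ _).trans pullback.condition) : pullback (f ≫ g) a ⟶ pullback g a)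
      ((Scheme.Modules.pullback (pullback.fst (f ≫ g) a)).obj L) ↔ AmpleAt f g L a := by
  obtain ⟨e, he, h1, h2⟩ := fibre_square f g a
  rw [← h2]
  haveI : QuasiCompact (bcMap f g a) := MorphismProperty.pullback_snd _ _ inferInstance
  have sq : IsPullback e (e ≫ bcMap f g a) (bcMap f g a) (𝟙 _) := IsPullback.of_horiz_isIso ⟨by simp⟩
  have sq' : IsPullback (inv e) (bcMap f g a) (e ≫ bcMap f g a) (𝟙 _) :=
    IsPullback.of_horiz_isIso ⟨by simp⟩
  constructor
  · intro h
    exact relAmple_of_iso ((Scheme.Modules.pullbackComp (inv e) _).app L ≪≫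
      (Scheme.Modules.pullbackCongr (by rw [← h1, IsIso.inv_hom_id_assoc])).app L)
      (isRelAmple_of_isPullback sq' h)
  · intro h
    exact relAmple_of_iso ((Scheme.Modules.pullbackComp e _).app L ≪≫
      (Scheme.Modules.pullbackCongr h1).app L) (isRelAmple_of_isPullback sq h)

variable (f g) in
theorem qpAt_iff [QuasiCompact f] [LocallyOfFiniteType f] {T : Scheme.{u}} (a : T ⟶ S) :
    _root_.RelProj.IsQuasiProjective (pullback.lift (pullback.fst (f ≫ g) a ≫ f) (pullback.snd (f ≫ g) a)
        ((Category.assoc _ _ _).trans pullback.condition) : pullback (f ≫ g) a ⟶ pullback g a) ↔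
      QPAt f g a := by
  obtain ⟨e, he, h1, h2⟩ := fibre_square f g a
  rw [← h2]
  haveI : QuasiCompact (bcMap f g a) := MorphismProperty.pullback_snd _ _ inferInstance
  haveI : LocallyOfFiniteType (bcMap f g a) := MorphismProperty.pullback_snd _ _ inferInstance
  have sq : IsPullback e (e ≫ bcMap f g a) (bcMap f g a) (𝟙 _) := IsPullback.of_horiz_isIso ⟨by simp⟩
  have sq' : IsPullback (inv e) (bcMap f g a) (e ≫ bcMap f g a) (𝟙 _) :=
    IsPullback.of_horiz_isIso ⟨by simp⟩
  constructor
  · rintro ⟨-, -, L, hL⟩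
    exact ⟨_, isRelAmple_of_isPullback sq' hL⟩
  · rintro ⟨L, hL⟩
    exact ⟨inferInstance, inferInstance, _, isRelAmple_of_isPullback sq hL⟩

variable (f g) in
/-- The base change of `f` is proper and has a relatively ample module. -/
def ProjAt {T : Scheme.{u}} (a : T ⟶ S) : Prop := IsProper (bcMap f g a) ∧ QPAt f g a

theorem projAt_stage [QuasiCompact g] [QuasiSeparated g] [QuasiCompact (f ≫ g)] [QuasiSeparated (f ≫ g)]
    [QuasiCompact f] [QuasiSeparated f] [LocallyOfFiniteType f]
    {A : CommRingCat.{u}} (u : Spec A ⟶ S) (q : Ideal A) [q.IsPrime]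
    (h : ProjAt f g (Spec.map (CommRingCat.ofHom (algebraMap A q.ResidueField)) ≫ u)) :
    ∃ i : Ix q, ProjAt f g (Spec.map (CommRingCat.ofHom (algebraMap A (Stage i))) ≫ u) := by
  obtain ⟨i₁, h1⟩ := exists_stage (P := @IsProper) (Q := @LocallyOfFiniteType)
    Lim.Valuative.isProper_descends inferInstance u q h.1
  obtain ⟨i₂, h2⟩ := qpAt_stage u q h.2
  obtain ⟨i, hi₁, hi₂⟩ := exists_ge_ge i₁ i₂
  exact ⟨i, bcMap_of_comp _ (hj_eq u q (homOfLE hi₁)) h1, qpAt_mono _ (hj_eq u q (homOfLE hi₂)) h2⟩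

variable (f g) in
theorem projAt_iff [QuasiCompact f] [LocallyOfFiniteType f] [LocallyOfFiniteType g] [QuasiCompact g] (s : S) :
    _root_.RelProj.IsProjective (pullback.lift (pullback.fst (f ≫ g) (S.fromSpecResidueField s) ≫ f)
        (pullback.snd (f ≫ g) (S.fromSpecResidueField s))
        ((Category.assoc _ _ _).trans pullback.condition) :
        pullback (f ≫ g) (S.fromSpecResidueField s) ⟶ pullback g (S.fromSpecResidueField s)) ↔
      ProjAt f g (S.fromSpecResidueField s) := by
  rw [ProjAt, ← qpAt_iff f g, ← fibreMap_iff f g @IsProper]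
  constructor
  · intro h
    exact (S4418.result _ h).symm
  · rintro ⟨h1, h2⟩
    haveI := h1
    haveI : LocallyOfFiniteType (pullback.snd g (S.fromSpecResidueField s)) :=
      MorphismProperty.pullback_snd _ _ inferInstance
    haveI : QuasiCompact (pullback.snd g (S.fromSpecResidueField s)) :=
      MorphismProperty.pullback_snd _ _ inferInstance
    haveI : IsLocallyNoetherian (pullback g (S.fromSpecResidueField s)) :=
      LocallyOfFiniteType.isLocallyNoetherian (pullback.snd g (S.fromSpecResidueField s))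
    haveI : CompactSpace ↥(pullback g (S.fromSpecResidueField s)) :=
      QuasiCompact.compactSpace_of_compactSpace (pullback.snd g (S.fromSpecResidueField s))
    haveI : IsNoetherian (pullback g (S.fromSpecResidueField s)) := ⟨⟩
    exact S4419.result (Or.inr inferInstance) _ h2

end Groth.Agent.H58AL.Loci
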