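import Groth.Agent.H58AL.Fibrewise
import Groth.Agent.S2079
import Groth.Agent.S9223

/-!
# Ampleness near a point with ample fibre, for proper morphisms
-/

set_option autoImplicit false
set_option linter.unusedVariables false
set_option linter.style.haveILetI false
set_option backward.isDefEq.respectTransparency false
set_option maxHeartbeats 1000000

noncomputable section

universe u

open CategoryTheory CategoryTheory.Limits AlgebraicGeometry

namespace Groth.Agent.H58AL.NearFibre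

open Groth.Agent.Lib Groth.Agent.Lib.Lim.Basic Groth.Agent.H58AL.Loci Groth.Agent.H58AL.Fibrewise

local notation "pb" => Scheme.Modules.pullback

theorem affine {A : Type u} [CommRing A] {X : Scheme.{u}} (f : X ⟶ Spec (CommRingCat.of A))
    [IsProper f] {L : X.Modules} (hL : PicF.IsInvertible L) (y : Spec (CommRingCat.of A))
    (hy : FibAmple f L y) :
    ∃ U : (Spec (CommRingCat.of A)).Opens, y ∈ U ∧
      _root_.RelAmple.IsRelAmple (f ∣_ U) ((pb (f ⁻¹ᵁ U).ι).obj L) := by
  obtain ⟨I, _, _, D, c, hc, e, hcl, hobj⟩ := S2079.result f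
  let S : Scheme.{u} := Spec (CommRingCat.of A)
  let D' : I ⥤ Scheme.{u} := D ⋙ Over.forget S
  haveI : IsConnected I := IsCofiltered.isConnected I
  let c' : Cone D' := (Cone.extend ((Over.forget S).mapCone c) e.inv.left)
  have hc' : IsLimit c' := IsLimit.extendIso e.inv.left (isLimitOfPreserves (Over.forget S) hc)
  haveI : ∀ i, IsProper (D.obj i).hom := fun i => (hobj i).2.1
  haveI : ∀ i, LocallyOfFinitePresentation (D.obj i).hom := fun i => (hobj i).2.2
  haveI : ∀ i j (φ : i ⟶ j), IsAffineHom (D'.map φ) := fun i j φ =>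
    have := hcl i j φ
    inferInstanceAs (IsAffineHom (D.map φ).left)
  haveI : ∀ i, CompactSpace ↥(D'.obj i) := fun i => QuasiCompact.compactSpace_of_compactSpace (D.obj i).hom
  haveI : ∀ i, QuasiSeparatedSpace ↥(D'.obj i) := fun i => quasiSeparatedSpace_of_quasiSeparated (D.obj i).hom
  have hπf : ∀ i, c'.π.app i ≫ (D.obj i).hom = f := fun i => by
    show (e.inv.left ≫ (c.π.app i).left) ≫ (D.obj i).hom = f
    rw [Category.assoc, Over.w (c.π.app i)]
    exact Over.w e.inv
  obtain ⟨hcol⟩ := H69.PicStage.Main.isColimit_invCl D' c' hc'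
  obtain ⟨j₀, ⟨_, L₀, rfl, hL₀⟩, hj₀⟩ := Types.jointly_surjective_of_isColimit hcol
    (⟨PicF.cl L, L, rfl, hL⟩ : PicLoc.invCl.obj (Opposite.op c'.pt))
  obtain ⟨eL⟩ : Nonempty ((pb (c'.π.app j₀.unop)).obj L₀ ≅ L) :=
    (PerfPic.Basic.cl_eq_iff).1 (congrArg Subtype.val hj₀)
  let i₀ := j₀.unop
  clear hj₀
  let κ := S.fromSpecResidueField y
  let a : pullback (D.obj i₀).hom κ ⟶ D'.obj i₀ := pullback.fst _ κ
  let q : pullback f κ ⟶ pullback (D.obj i₀).hom κ :=
    pullback.lift (pullback.fst f κ ≫ c'.π.app i₀) (pullback.snd f κ)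
      (by rw [Category.assoc, hπf]; exact pullback.condition)
  have hsq : IsPullback q (pullback.fst f κ) a (c'.π.app i₀) := by
    refine (IsPullback.of_bot ?_ (pullback.lift_fst _ _ _).symm (IsPullback.of_hasPullback (D.obj i₀).hom κ)).flip
    rw [pullback.lift_snd, hπf]
    exact IsPullback.of_hasPullback f κ
  haveI : QuasiCompact (pullback.snd (D.obj i₀).hom κ) := MorphismProperty.pullback_snd _ _ inferInstance
  haveI : QuasiSeparated (pullback.snd (D.obj i₀).hom κ) := MorphismProperty.pullback_snd _ _ inferInstance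
  haveI : CompactSpace ↥(pullback (D.obj i₀).hom κ) :=
    QuasiCompact.compactSpace_of_compactSpace (pullback.snd _ κ)
  haveI : QuasiSeparatedSpace ↥(pullback (D.obj i₀).hom κ) :=
    quasiSeparatedSpace_of_quasiSeparated (pullback.snd _ κ)
  haveI : ∀ o, CompactSpace ↥((bcDiagram D' a).obj o) := fun o => compactSpace_bcDiagram D' a o
  haveI : ∀ o, QuasiSeparatedSpace ↥((bcDiagram D' a).obj o) := fun o => quasiSeparatedSpace_bcDiagram D' a o
  let o₀ : Over i₀ := Over.mk (𝟙 i₀)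
  let b : (bcDiagram D' a).obj o₀ ⟶ D'.obj i₀ := pullback.fst a (D'.map o₀.hom) ≫ a
  obtain ⟨o, φ, ho⟩ := S9223.result (bcDiagram D' a) (bcCone hsq.w) (isLimitBcCone hc' hsq) o₀
    ((pb b).obj L₀) (PicLoc.isInvertible_pullback _ hL₀) (by
      refine Ample.Pow.isAmple_of_iso ?_ hy
      refine ((pb _).mapIso eL).symm ≪≫ (Scheme.Modules.pullbackComp _ _).app L₀ ≪≫
        (Scheme.Modules.pullbackCongr ?_).app L₀ ≪≫ ((Scheme.Modules.pullbackComp _ b).app L₀).symm
      show pullback.fst f κ ≫ c'.π.app i₀ = _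
      rw [← hsq.w]
      exact (congrArg (· ≫ a) (bcCone_π_fst hsq.w o₀)).symm.trans (Category.assoc _ _ _))
  -- the fibre of the stage
  let j := o.left
  let g := (D.obj j).hom
  let M := (pb (D'.map o.hom)).obj L₀
  have hM : FibAmple g M y := by
    have sqj : IsPullback (pullback.snd a (D'.map o.hom)) (pullback.fst a (D'.map o.hom) ≫ pullback.snd _ κ)
        g κ := by
      have h := (IsPullback.of_hasPullback a (D'.map o.hom)).flip.paste_vert (IsPullback.of_hasPullback (D.obj i₀).hom κ)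
      have hw : D'.map o.hom ≫ (D.obj i₀).hom = g := Over.w (D.map o.hom)
      rwa [hw] at h
    have h' := Ample.Pullback.isAmple_pullback sqj.isoPullback.inv
      (Ample.Pullback.isQuasiAffine_of_isAffineHom _) ho
    refine Ample.Pow.isAmple_of_iso ((pb _).mapIso ((Scheme.Modules.pullbackComp _ b).app L₀ ≪≫
      (Scheme.Modules.pullbackCongr ?_).app L₀ ≪≫ ((Scheme.Modules.pullbackComp _ _).app L₀).symm) ≪≫
      (Scheme.Modules.pullbackComp _ _).app M ≪≫
      (Scheme.Modules.pullbackCongr sqj.isoPullback_inv_fst).app M) h'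
    exact (Category.assoc _ _ _).symm.trans
      ((congrArg (· ≫ a) (bcDiagram_map_fst D' a φ)).trans pullback.condition)
  obtain ⟨ho', -, -⟩ := affine_case g (L := M) (PicLoc.isInvertible_pullback _ hL₀)
  let U : S.Opens := ⟨_, ho'⟩
  refine ⟨U, hM, ?_⟩
  haveI : IsProper (g ∣_ U) := IsZariskiLocalAtTarget.restrict (P := @IsProper) (f := g) inferInstance U
  haveI : LocallyOfFinitePresentation (g ∣_ U) :=
    IsZariskiLocalAtTarget.restrict (P := @LocallyOfFinitePresentation) (f := g) inferInstance U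
  have h1 : _root_.RelAmple.IsRelAmple (g ∣_ U) ((pb (g ⁻¹ᵁ U).ι).obj M) :=
    (Fibrewise.global (g ∣_ U) (PicLoc.isInvertible_pullback _ (PicLoc.isInvertible_pullback _ hL₀))).2.2
      fun z => (fibAmple_iff (isPullback_morphismRestrict g U).flip
        (PicLoc.isInvertible_pullback _ hL₀) z).2 z.2
  let t := c'.π.app j
  haveI : IsClosedImmersion (c.π.app j).left := (hobj j).1
  haveI : IsAffineHom t := inferInstanceAs (IsAffineHom (e.inv.left ≫ (c.π.app j).left))
  have ht : t ≫ g = f := hπf j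
  haveI : IsAffineHom (t ∣_ (g ⁻¹ᵁ U)) :=
    IsZariskiLocalAtTarget.restrict (P := @IsAffineHom) (f := t) inferInstance _
  have h2 := Ample.RelAmple.isRelAmple_pullback (g ∣_ U) (t ∣_ (g ⁻¹ᵁ U))
    (Ample.Pullback.isQuasiAffine_of_isAffineHom _) h1
  rw [← morphismRestrict_comp t g U] at h2
  have h3 : _root_.RelAmple.IsRelAmple ((t ≫ g) ∣_ U) ((pb ((t ≫ g) ⁻¹ᵁ U).ι).obj L) := by
    refine relAmple_of_iso ?_ h2
    refine (Scheme.Modules.pullbackComp _ _).app M ≪≫
      (Scheme.Modules.pullbackCongr (morphismRestrict_ι t (g ⁻¹ᵁ U))).app M ≪≫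
      ((Scheme.Modules.pullbackComp _ t).app M).symm ≪≫ (pb _).mapIso ?_
    exact (Scheme.Modules.pullbackComp t _).app L₀ ≪≫
      (Scheme.Modules.pullbackCongr (c'.w o.hom)).app L₀ ≪≫ eL
  exact ht ▸ h3

theorem exists_nhd {X Y : Scheme.{u}} (f : X ⟶ Y) [IsProper f] {L : X.Modules} (hL : PicF.IsInvertible L)
    (y : Y) (hy : FibAmple f L y) :
    ∃ V : Y.Opens, y ∈ V ∧ _root_.RelAmple.IsRelAmple (f ∣_ V) (L.restrict (f ⁻¹ᵁ V).ι) := by
  obtain ⟨V, hV, hyV, -⟩ := exists_isAffineOpen_mem_and_subset (x := y) (U := (⊤ : Y.Opens)) trivial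
  let z := hV.isoSpec.hom ⟨y, hyV⟩
  have hz : hV.fromSpec z = y := by
    show (hV.isoSpec.hom ≫ hV.fromSpec) ⟨y, hyV⟩ = y
    rw [show hV.isoSpec.hom ≫ hV.fromSpec = V.ι by rw [← hV.isoSpec_inv_ι, Iso.hom_inv_id_assoc]]
    rfl
  let f' := (f ∣_ V) ≫ hV.isoSpec.hom
  have sq := affineOpen_square f hV
  haveI : IsProper f' := MorphismProperty.of_isPullback (P := @IsProper) sq ‹_›
  obtain ⟨U, hzU, hU⟩ := affine f' (PicLoc.isInvertible_pullback (f ⁻¹ᵁ V).ι hL) z
    ((fibAmple_iff sq hL z).2 (hz.symm ▸ hy))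
  let W := hV.fromSpec ''ᵁ U
  refine ⟨W, ⟨z, hzU, hz⟩, ?_⟩
  let r : (W : Scheme.{u}) ⟶ (U : Scheme.{u}) := (hV.fromSpec.isoImage U).inv
  have hr : r ≫ U.ι ≫ hV.fromSpec = W.ι := hV.fromSpec.isoImage_inv_ι U
  have outer := (isPullback_morphismRestrict f W).flip
  have right := (isPullback_morphismRestrict f' U).flip.paste_horiz sq
  let k := right.lift (f ⁻¹ᵁ W).ι ((f ∣_ W) ≫ r) (by rw [Category.assoc, hr]; exact outer.w)
  have hk : k ≫ (f' ⁻¹ᵁ U).ι ≫ (f ⁻¹ᵁ V).ι = (f ⁻¹ᵁ W).ι := right.lift_fst _ _ _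
  have left : IsPullback k (f ∣_ W) (f' ∣_ U) r := by
    refine IsPullback.of_right ?_ (right.lift_snd _ _ _) right
    rw [hk, hr]
    exact outer
  haveI : QuasiCompact (f' ∣_ U) :=
    IsZariskiLocalAtTarget.restrict (P := @QuasiCompact) (f := f') inferInstance U
  refine relAmple_of_iso ?_ (isRelAmple_of_isPullback left hU)
  exact (Scheme.Modules.pullbackComp k _).app _ ≪≫ (Scheme.Modules.pullbackComp _ _).app L ≪≫
    (Scheme.Modules.pullbackCongr ((Category.assoc _ _ _).trans hk)).app L ≪≫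
    ((Scheme.Modules.restrictFunctorIsoPullback (f ⁻¹ᵁ W).ι).app L).symm

end Groth.Agent.H58AL.NearFibre
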